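import Mathlib
import Groth.Agent.Lib.Helper19.ValEx

/-!
# Algebra for the refined valuative criterion: dominating overrings of composites (helper19)
-/

set_option autoImplicit false
universe u
open IsLocalRing

namespace Groth.Agent.Helper19.RefVC
open Groth.Agent.Lib.Helper19.ValEx

/-- the valuation subring of the fraction field given by a valuation ring -/
def rangeVS (A K : Type*) [CommRing A] [IsDomain A] [ValuationRing A] [Field K] [Algebra A K]
    [IsFractionRing A K] : ValuationSubring K :=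
  ValuationSubring.ofSubring (algebraMap A K).range (by
    intro x
    rcases ValuationRing.isInteger_or_isInteger A x with ⟨a, ha⟩ | ⟨a, ha⟩
    · left; exact ⟨a, ha⟩
    · right; exact ⟨a, ha⟩)

theorem mem_rangeVS {A K : Type*} [CommRing A] [IsDomain A] [ValuationRing A] [Field K]
    [Algebra A K] [IsFractionRing A K] {x : K} : x ∈ rangeVS A K ↔ ∃ a : A, algebraMap A K a = x :=
  Iff.rfl

/-- the map from a valuation ring to its image in the fraction field -/
def toRangeVS (A K : Type*) [CommRing A] [IsDomain A] [ValuationRing A] [Field K] [Algebra A K]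
    [IsFractionRing A K] : A →+* rangeVS A K :=
  (algebraMap A K).codRestrict (rangeVS A K).toSubring (fun a => ⟨a, rfl⟩)

/-- Domination in terms of valuation subrings: if `φ : C₀ → A'` is a local homomorphism of valuation
rings compatible with `ψ` on fraction fields, then the preimage of `A'` in `F` is `C₀`. -/
theorem comap_rangeVS_of_isLocalHom {F : Type*} [Field F] (C₀ : ValuationSubring F)
    {A' K' : Type*} [CommRing A'] [IsDomain A'] [ValuationRing A'] [Field K'] [Algebra A' K']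
    [IsFractionRing A' K'] (φ : C₀ →+* A') (ψ : F →+* K')
    (comm : (algebraMap A' K').comp φ = ψ.comp (algebraMap C₀ F)) (hloc : IsLocalHom φ) (x : F) :
    ψ x ∈ rangeVS A' K' ↔ x ∈ C₀ := by
  have hc : ∀ c : C₀, algebraMap A' K' (φ c) = ψ (c : F) := fun c =>
    congrArg (fun t => t c) comm
  constructor
  · rintro ⟨a', ha'⟩
    by_contra hx
    have hx' : x⁻¹ ∈ C₀ := (C₀.mem_or_inv_mem x).resolve_left hx
    have hx0 : x ≠ 0 := fun h0 => hx (h0 ▸ C₀.zero_mem)
    have hu : IsUnit (φ ⟨x⁻¹, hx'⟩) := by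
      rw [isUnit_iff_exists_inv]
      refine ⟨a', ?_⟩
      apply IsFractionRing.injective A' K'
      rw [map_mul, hc, ha', map_one, ← map_mul, inv_mul_cancel₀ hx0, map_one]
    have hu' : IsUnit (⟨x⁻¹, hx'⟩ : C₀) := hloc.map_nonunit _ hu
    obtain ⟨y, hy⟩ := hu'.exists_right_inv
    have h3 : x⁻¹ * (y : F) = 1 := by
      have := congrArg (fun b : C₀ => (b : F)) hy
      simpa using this
    have : (y : F) = x := by
      have := eq_inv_of_mul_eq_one_right h3
      rw [inv_inv] at this; exact this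
    exact hx (this ▸ y.2)
  · intro hx
    exact ⟨φ ⟨x, hx⟩, hc ⟨x, hx⟩⟩

/-- **Dominating overring.** For valuation rings `C₀ ≤ B` of `F`, and a valuation ring `A'` of an
extension `K'` with `A' ∩ F = C₀`, there is a valuation ring `B'` of `K'` containing `A'` with
`B' ∩ F = B`. -/
theorem exists_valuationSubring_comap {F K' : Type*} [Field F] [Field K']
    (C₀ B : ValuationSubring F) (hle : C₀ ≤ B) (A' : ValuationSubring K') (ψ : F →+* K')
    (hcomap : ∀ x : F, ψ x ∈ A' ↔ x ∈ C₀) :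
    ∃ B' : ValuationSubring K', A' ≤ B' ∧ ∀ x : F, ψ x ∈ B' ↔ x ∈ B := by
  let Sset : Subring K' :=
    { carrier := {z | ∃ s : F, s ∈ C₀ ∧ s⁻¹ ∈ B ∧ s ≠ 0 ∧ z * ψ s ∈ A'}
      mul_mem' := by
        rintro z₁ z₂ ⟨s₁, h1, h1', h10, hz1⟩ ⟨s₂, h2, h2', h20, hz2⟩
        refine ⟨s₁ * s₂, C₀.mul_mem _ _ h1 h2, ?_, mul_ne_zero h10 h20, ?_⟩
        · rw [mul_inv]; exact B.mul_mem _ _ h1' h2'
        · have : z₁ * z₂ * ψ (s₁ * s₂) = (z₁ * ψ s₁) * (z₂ * ψ s₂) := by rw [map_mul]; ring
          rw [this]; exact A'.mul_mem _ _ hz1 hz2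
      one_mem' := ⟨1, C₀.one_mem, by rw [inv_one]; exact B.one_mem, one_ne_zero, by
        rw [map_one, mul_one]; exact A'.one_mem⟩
      add_mem' := by
        rintro z₁ z₂ ⟨s₁, h1, h1', h10, hz1⟩ ⟨s₂, h2, h2', h20, hz2⟩
        refine ⟨s₁ * s₂, C₀.mul_mem _ _ h1 h2, ?_, mul_ne_zero h10 h20, ?_⟩
        · rw [mul_inv]; exact B.mul_mem _ _ h1' h2'
        · have : (z₁ + z₂) * ψ (s₁ * s₂) = (z₁ * ψ s₁) * ψ s₂ + (z₂ * ψ s₂) * ψ s₁ := by
            rw [map_mul]; ring
          rw [this]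
          exact A'.add_mem _ _ (A'.mul_mem _ _ hz1 ((hcomap s₂).2 h2))
            (A'.mul_mem _ _ hz2 ((hcomap s₁).2 h1))
      zero_mem' := ⟨1, C₀.one_mem, by rw [inv_one]; exact B.one_mem, one_ne_zero, by
        rw [zero_mul]; exact A'.zero_mem⟩
      neg_mem' := by
        rintro z ⟨s, h1, h1', h10, hz⟩
        refine ⟨s, h1, h1', h10, ?_⟩
        rw [neg_mul]; exact A'.neg_mem _ hz }
  have hA'S : A'.toSubring ≤ Sset := by
    intro z hz
    exact ⟨1, C₀.one_mem, by rw [inv_one]; exact B.one_mem, one_ne_zero, by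
      rw [map_one, mul_one]; exact hz⟩
  refine ⟨ValuationSubring.ofLE A' Sset hA'S, fun z hz => hA'S hz, fun x => ?_⟩
  constructor
  · rintro ⟨s, hs, hs', hs0, hz⟩
    have h1 : x * s ∈ C₀ := (hcomap _).1 (by rw [map_mul]; exact hz)
    have h2 : x = (x * s) * s⁻¹ := by rw [mul_assoc, mul_inv_cancel₀ hs0, mul_one]
    rw [h2]
    exact B.mul_mem _ _ (hle h1) hs'
  · intro hx
    by_cases hxC : x ∈ C₀
    · exact hA'S ((hcomap x).2 hxC)
    · have hx' : x⁻¹ ∈ C₀ := (C₀.mem_or_inv_mem x).resolve_left hxC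
      have hx0 : x ≠ 0 := fun h0 => hxC (h0 ▸ C₀.zero_mem)
      refine ⟨x⁻¹, hx', by rw [inv_inv]; exact hx, inv_ne_zero hx0, ?_⟩
      rw [← map_mul, mul_inv_cancel₀ hx0, map_one]
      exact A'.one_mem

/-- The induced map `B → B'` is a local homomorphism when `B' ∩ F = B`. -/
theorem isLocalHom_codRestrict_of_comap {F K' : Type*} [Field F] [Field K']
    (B : ValuationSubring F) (B' : ValuationSubring K') (ψ : F →+* K')
    (hB' : ∀ x : F, ψ x ∈ B' ↔ x ∈ B) :
    IsLocalHom ((ψ.comp B.subtype).codRestrict B'.toSubring (fun b => (hB' b).2 b.2)) := by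
  refine ⟨fun b hb => ?_⟩
  obtain ⟨w, hw⟩ := hb.exists_right_inv
  have h1 : ψ (b : F) * (w : K') = 1 := by
    have := congrArg (fun z : B' => (z : K')) hw
    simpa using this
  have hb0 : (b : F) ≠ 0 := by
    intro h0
    rw [h0, map_zero, zero_mul] at h1
    exact zero_ne_one h1
  have h2 : (w : K') = ψ ((b : F)⁻¹) := by
    rw [map_inv₀]
    exact eq_inv_of_mul_eq_one_right h1
  have h3 : (b : F)⁻¹ ∈ B := (hB' _).1 (h2 ▸ w.2)
  rw [isUnit_iff_exists_inv]
  refine ⟨⟨(b : F)⁻¹, h3⟩, ?_⟩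
  apply Subtype.ext
  change (b : F) * (b : F)⁻¹ = 1
  exact mul_inv_cancel₀ hb0

section Composite

variable {F Ω : Type*} [Field F] [Field Ω] (B : ValuationSubring F) (t : B →+* Ω)
  (ht : ∀ y : B, ¬ IsUnit y → t y = 0) (V : ValuationSubring Ω)

/-- the map from the composite valuation ring to the residue valuation ring is local -/
theorem isLocalHom_toV : IsLocalHom (toV B t ht V) := by
  refine ⟨fun c hc => ?_⟩
  obtain ⟨w, hw⟩ := hc.exists_right_inv
  have h1 : t (inclB B t ht V c) * (w : Ω) = 1 := by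
    have := congrArg (fun z : V => (z : Ω)) hw
    rw [← toV_coe]
    simpa using this
  have hu : IsUnit (inclB B t ht V c) := by
    by_contra hnu
    rw [ht _ hnu, zero_mul] at h1
    exact zero_ne_one h1
  obtain ⟨y, hy⟩ := hu.exists_right_inv
  have h2 : t (inclB B t ht V c) * t y = 1 := by rw [← map_mul, hy, map_one]
  have h3 : t y = (w : Ω) := by
    have e1 := eq_inv_of_mul_eq_one_right h1
    have e2 := eq_inv_of_mul_eq_one_right h2
    rw [e1, e2]
  have hyC : (y : F) ∈ compVal B t ht V := (mem_compVal B t ht V).2 ⟨y, h3 ▸ w.2, rfl⟩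
  rw [isUnit_iff_exists_inv]
  refine ⟨⟨(y : F), hyC⟩, ?_⟩
  apply Subtype.ext
  have := congrArg (fun b : B => (b : F)) hy
  change (c : F) * (y : F) = 1
  rw [← inclB_coe B t ht V c]
  simpa using this

theorem compVal_le' : compVal B t ht V ≤ B := fun _ hz => compVal_le B t ht V hz

end Composite

end Groth.Agent.Helper19.RefVC
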