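import Groth.Agent.Lib.Helper19.RefVC.Data
import Groth.Agent.Lib.Helper19.DvrVC.SepDense
import Groth.Agent.Lib.Helper19.DvrVC.Diagram

/-!
# Refined valuative criterion through a dense source: the specialization lemma (helper19)
-/

set_option autoImplicit false
universe u
open CategoryTheory CategoryTheory.Limits AlgebraicGeometry MorphismProperty TopologicalSpace
open AlgSp

namespace Groth.Agent.Helper19.RefVC
open Groth.Agent.Helper15 Groth.Agent.Helper16.AS Groth.Agent.Helper19.ValCopy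
  Groth.Agent.Helper19.DvrVC
variable {S : Scheme.{u}}

open IsLocalRing

/-- Dense quasi-compact chart: for `h : U ⟶ X` quasi-compact with dense image and an étale
`c : h_T ⟶ X` from a quasi-compact scheme `T`, there is an affine scheme `U'` with a map to `U` and
a morphism `h' : U' ⟶ T` with dense image, lying over `h`. -/
theorem exists_dense_chart_qc {U X : Sp S} (hU : IsAlgSpace U) (hX : IsAlgSpace X) (h : U ⟶ X)
    (hh : IsQuasiCompactMor h) (hdense : DenseRange (Points.map h))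
    (T : Over S) [CompactSpace T.left] (c : (yon S).obj T ⟶ X) (hc : RepWith @Etale c) :
    ∃ (U' : Over S) (a' : (yon S).obj U' ⟶ U) (h' : U' ⟶ T), IsAffine U'.left ∧
      a' ≫ h = (yon S).map h' ≫ c ∧ DenseRange h'.left := by
  have pbU : IsPullback (pullback.fst h c) (pullback.snd h c) h c := IsPullback.of_hasPullback _ _
  have hUT : IsAlgSpace (pullback h c) :=
    isAlgSpace_of_isPullback hX.diag hU (IsAlgSpace.yon_obj T) pbU
  have hUTq : IsQuasiCompactSp (pullback h c) :=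
    hh (IsAlgSpace.yon_obj T) ((isQuasiCompactSp_yon_iff T).2 inferInstance) c _ _ pbU
  obtain ⟨U', p', hU', hp'e, hp's⟩ := exists_affine_chart_of_isQuasiCompactSp hUTq
  obtain ⟨h', hh'⟩ := (yon S).map_surjective (p' ≫ pullback.snd h c)
  let a' : (yon S).obj U' ⟶ U := p' ≫ pullback.fst h c
  have comm : a' ≫ h = (yon S).map h' ≫ c := by
    rw [hh', Category.assoc, Category.assoc, pbU.w]
  refine ⟨U', a', h', hU', comm, ?_⟩
  have hd0 : Dense (Set.range (Points.map h)) := hdense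
  have hd1 : Dense (Points.ofPt c ⁻¹' Set.range (Points.map h)) :=
    hd0.preimage (isOpenMap_ofPt_of_etale c hc)
  refine hd1.mono ?_
  intro t ht
  have h1 : Points.ofScheme T t ∈ Points.map c ⁻¹' Set.range (Points.map h) := by
    change Points.map c (Points.ofScheme T t) ∈ Set.range (Points.map h)
    rw [← Points.ofPt_eq_map_ofScheme]
    exact ht
  rw [← range_map_of_isPullback pbU] at h1
  obtain ⟨z, hz⟩ := h1
  obtain ⟨u', rfl⟩ := surjective_ofPt p' hp's z
  rw [Points.map_ofPt, ← hh', Groth.Agent.Helper15.ofPt_yon_map] at hz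
  exact ⟨u', (Points.schemeEquiv T).injective hz⟩

set_option maxHeartbeats 1600000 in
set_option backward.isDefEq.respectTransparency.types false in
/-- **Core of the refined criterion.** Given the composite valuation ring data, the hypotheses on
valuative squares through `U` produce a point of the closed set over the specialization. -/
theorem exists_mem_of_composite {U X Y : Sp S} (f : X ⟶ Y) (h : U ⟶ X)
    (hv : ∀ sq : ValSq f, (∃ t : (yon S).obj sq.ptK ⟶ U, t ≫ h = sq.top) →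
      sq.HasUniq ∧ sq.HasLiftExt)
    {U₂ U₁ W₁ : Over S} (a₂ : (yon S).obj U₂ ⟶ U) (a : (yon S).obj U₁ ⟶ X)
    (q : (yon S).obj W₁ ⟶ Y) (h₂ : U₂ ⟶ U₁) (k : U₁ ⟶ W₁)
    (comm1 : a₂ ≫ h = (yon S).map h₂ ≫ a) (comm2 : a ≫ f = (yon S).map k ≫ q)
    (C : Set (Points X)) (hC : IsClosed C)
    {F : Type u} [Field F] (B C₀ : ValuationSubring F) (hle : C₀ ≤ B)
    (ρ₀ : Spec (CommRingCat.of F) ⟶ U₂.left)
    (βB : Spec (CommRingCat.of B) ⟶ U₁.left) (βC : Spec (CommRingCat.of C₀) ⟶ W₁.left)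
    (hB2 : Spec.map (CommRingCat.ofHom B.subtype) ≫ βB = ρ₀ ≫ h₂.left)
    (hC3 : Spec.map (CommRingCat.ofHom (ValuationSubring.inclusion C₀ B hle)) ≫ βC =
      βB ≫ k.left)
    (hmem : Points.ofPt a (βB (closedPoint B)) ∈ C) :
    ∃ x ∈ C, Points.map f x = Points.ofPt q (βC (closedPoint C₀)) := by
  have hU₂w : h₂.left ≫ U₁.hom = U₂.hom := Over.w h₂
  have hU₁w : k.left ≫ W₁.hom = U₁.hom := Over.w k
  -- the square for the composite valuation ring
  let strC : Spec (.of C₀) ⟶ S := βC ≫ W₁.hom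
  let βC' : Over.mk strC ⟶ W₁ := Over.homMk βC rfl
  have hK : Spec.map (CommRingCat.ofHom (algebraMap C₀ F)) ≫ βC = ρ₀ ≫ h₂.left ≫ k.left := by
    have e : CommRingCat.ofHom (algebraMap C₀ F) =
        CommRingCat.ofHom (ValuationSubring.inclusion C₀ B hle) ≫ CommRingCat.ofHom B.subtype := rfl
    rw [e, Spec.map_comp, Category.assoc, hC3, ← Category.assoc, hB2, Category.assoc]
  have hρ : ρ₀ ≫ U₂.hom = Spec.map (CommRingCat.ofHom (algebraMap C₀ F)) ≫ strC := by
    change _ = _ ≫ βC ≫ W₁.hom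
    rw [← Category.assoc, hK, Category.assoc, Category.assoc, hU₁w, hU₂w]
  let ρ : Over.mk (Spec.map (CommRingCat.ofHom (algebraMap C₀ F)) ≫ strC) ⟶ U₂ :=
    Over.homMk ρ₀ hρ
  let jj : Over.mk (Spec.map (CommRingCat.ofHom (algebraMap C₀ F)) ≫ strC) ⟶ Over.mk strC :=
    Over.homMk (Spec.map (CommRingCat.ofHom (algebraMap C₀ F))) rfl
  have hρk : ρ ≫ h₂ ≫ k = jj ≫ βC' := by
    ext
    exact hK.symm
  have hcommC : ((yon S).map ρ ≫ a₂ ≫ h) ≫ f = (yon S).map jj ≫ (yon S).map βC' ≫ q := by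
    calc ((yon S).map ρ ≫ a₂ ≫ h) ≫ f
        = (yon S).map ρ ≫ (yon S).map h₂ ≫ a ≫ f := by
          rw [Category.assoc, Category.assoc, ← Category.assoc a₂, comm1, Category.assoc]
      _ = (yon S).map ρ ≫ (yon S).map h₂ ≫ (yon S).map k ≫ q := by rw [comm2]
      _ = (yon S).map (ρ ≫ h₂ ≫ k) ≫ q := by simp only [Functor.map_comp, Category.assoc]
      _ = (yon S).map (jj ≫ βC') ≫ q := by rw [hρk]
      _ = (yon S).map jj ≫ (yon S).map βC' ≫ q := by rw [Functor.map_comp, Category.assoc]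
  let sqC : ValSq f :=
    { A := C₀, K := F, str := strC, top := (yon S).map ρ ≫ a₂ ≫ h
      bot := (yon S).map βC' ≫ q
      comm := hcommC }
  obtain ⟨-, e, lam, hlam1, hlam2⟩ := hv sqC ⟨(yon S).map ρ ≫ a₂, by rw [Category.assoc]⟩
  haveI := e.isLocalHom
  -- the dominating overring of `e.A'` over `B`
  have hcomap : ∀ x : F, e.ψ x ∈ rangeVS e.A' e.K' ↔ x ∈ C₀ :=
    comap_rangeVS_of_isLocalHom C₀ e.φ e.ψ e.comm e.isLocalHom
  obtain ⟨B', hAB', hB'⟩ := exists_valuationSubring_comap C₀ B hle (rangeVS e.A' e.K') e.ψ hcomap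
  let ι' : e.A' →+* B' :=
    (ValuationSubring.inclusion (rangeVS e.A' e.K') B' hAB').comp (toRangeVS e.A' e.K')
  let β : B →+* B' := (e.ψ.comp B.subtype).codRestrict B'.toSubring (fun b => (hB' b).2 b.2)
  haveI hβloc : IsLocalHom β := isLocalHom_codRestrict_of_comap B B' e.ψ hB'
  have r1 : CommRingCat.ofHom ι' ≫ CommRingCat.ofHom (algebraMap B' e.K') =
      CommRingCat.ofHom (algebraMap e.A' e.K') := rfl
  have r2 : CommRingCat.ofHom β ≫ CommRingCat.ofHom (algebraMap B' e.K') =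
      CommRingCat.ofHom B.subtype ≫ CommRingCat.ofHom e.ψ := rfl
  have r3 : CommRingCat.ofHom (ValuationSubring.inclusion C₀ B hle) ≫ CommRingCat.ofHom β =
      CommRingCat.ofHom e.φ ≫ CommRingCat.ofHom ι' := by
    ext c
    change e.ψ ((c : C₀) : F) = algebraMap e.A' e.K' (e.φ c)
    exact (congrArg (fun t => t c) e.comm).symm
  -- the square for `B'`
  let γB : Spec (.of B') ⟶ U₁.left := Spec.map (CommRingCat.ofHom β) ≫ βB
  let strB' : Spec (.of B') ⟶ S := γB ≫ U₁.hom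
  let β'' : Over.mk strB' ⟶ U₁ := Over.homMk γB rfl
  have hK' : Spec.map (CommRingCat.ofHom (algebraMap B' e.K')) ≫ γB =
      (Spec.map (CommRingCat.ofHom e.ψ) ≫ ρ₀) ≫ h₂.left := by
    change _ ≫ Spec.map (CommRingCat.ofHom β) ≫ βB = _
    rw [← Category.assoc, ← Spec.map_comp, r2, Spec.map_comp, Category.assoc, hB2, Category.assoc]
  have hρ' : (Spec.map (CommRingCat.ofHom e.ψ) ≫ ρ₀) ≫ U₂.hom =
      Spec.map (CommRingCat.ofHom (algebraMap B' e.K')) ≫ strB' := by
    change _ = _ ≫ γB ≫ U₁.hom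
    rw [← Category.assoc, hK', Category.assoc _ h₂.left, hU₂w]
  let ρ' : Over.mk (Spec.map (CommRingCat.ofHom (algebraMap B' e.K')) ≫ strB') ⟶ U₂ :=
    Over.homMk (Spec.map (CommRingCat.ofHom e.ψ) ≫ ρ₀) hρ'
  let jj' : Over.mk (Spec.map (CommRingCat.ofHom (algebraMap B' e.K')) ≫ strB') ⟶ Over.mk strB' :=
    Over.homMk (Spec.map (CommRingCat.ofHom (algebraMap B' e.K'))) rfl
  have hρ'h : ρ' ≫ h₂ = jj' ≫ β'' := by
    ext
    exact hK'.symm
  have hcommB : ((yon S).map ρ' ≫ a₂ ≫ h) ≫ f = (yon S).map jj' ≫ (yon S).map β'' ≫ a ≫ f := by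
    calc ((yon S).map ρ' ≫ a₂ ≫ h) ≫ f
        = (yon S).map ρ' ≫ (yon S).map h₂ ≫ a ≫ f := by
          rw [Category.assoc, Category.assoc, ← Category.assoc a₂, comm1, Category.assoc]
      _ = (yon S).map (ρ' ≫ h₂) ≫ a ≫ f := by rw [Functor.map_comp, Category.assoc]
      _ = (yon S).map (jj' ≫ β'') ≫ a ≫ f := by rw [hρ'h]
      _ = (yon S).map jj' ≫ (yon S).map β'' ≫ a ≫ f := by rw [Functor.map_comp, Category.assoc]
  let sqB : ValSq f :=
    { A := B', K := e.K', str := strB', top := (yon S).map ρ' ≫ a₂ ≫ h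
      bot := (yon S).map β'' ≫ a ≫ f
      comm := hcommB }
  -- the two lifts
  let l₁ : (yon S).obj (Over.mk strB') ⟶ X := (yon S).map β'' ≫ a
  have hl₁a : (yon S).map jj' ≫ l₁ = (yon S).map ρ' ≫ a₂ ≫ h := by
    calc (yon S).map jj' ≫ l₁ = (yon S).map (jj' ≫ β'') ≫ a := by
          rw [Functor.map_comp, Category.assoc]
      _ = (yon S).map (ρ' ≫ h₂) ≫ a := by rw [hρ'h]
      _ = (yon S).map ρ' ≫ a₂ ≫ h := by rw [Functor.map_comp, Category.assoc, comm1]
  have hl₁b : l₁ ≫ f = (yon S).map β'' ≫ a ≫ f := Category.assoc _ _ _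
  have hφι : Spec.map (CommRingCat.ofHom ι') ≫ Spec.map (CommRingCat.ofHom e.φ) ≫ βC =
      γB ≫ k.left := by
    change _ = (Spec.map (CommRingCat.ofHom β) ≫ βB) ≫ k.left
    rw [← Category.assoc, ← Spec.map_comp, ← r3, Spec.map_comp, Category.assoc, hC3,
      Category.assoc]
  have hγ : Spec.map (CommRingCat.ofHom ι') ≫ e.ptA'.hom = strB' := by
    change _ ≫ Spec.map (CommRingCat.ofHom e.φ) ≫ βC ≫ W₁.hom = γB ≫ U₁.hom
    rw [← Category.assoc (Spec.map (CommRingCat.ofHom e.φ)), ← Category.assoc,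
      hφι, Category.assoc, hU₁w]
  let γ : Over.mk strB' ⟶ e.ptA' := Over.homMk (Spec.map (CommRingCat.ofHom ι')) hγ
  let l₂ : (yon S).obj (Over.mk strB') ⟶ X := (yon S).map γ ≫ lam
  have hm : 𝟙 (Spec (CommRingCat.of e.K')) ≫ e.ptK'.hom =
      Spec.map (CommRingCat.ofHom (algebraMap B' e.K')) ≫ strB' := by
    rw [Category.id_comp, ← hγ]
    change Spec.map (CommRingCat.ofHom (algebraMap e.A' e.K')) ≫ e.ptA'.hom = _
    rw [← r1, Spec.map_comp, Category.assoc]
  let m : Over.mk (Spec.map (CommRingCat.ofHom (algebraMap B' e.K')) ≫ strB') ⟶ e.ptK' :=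
    Over.homMk (𝟙 _) hm
  let jK' : e.ptK' ⟶ e.ptA' := Over.homMk (Spec.map (CommRingCat.ofHom (algebraMap e.A' e.K'))) rfl
  have hjγ : jj' ≫ γ = m ≫ jK' := by
    ext
    change Spec.map (CommRingCat.ofHom (algebraMap B' e.K')) ≫ Spec.map (CommRingCat.ofHom ι') =
      𝟙 _ ≫ Spec.map (CommRingCat.ofHom (algebraMap e.A' e.K'))
    rw [Category.id_comp, ← r1, Spec.map_comp]
  have hψw : Spec.map (CommRingCat.ofHom e.ψ) ≫ sqC.ptK.hom = e.ptK'.hom := by
    change Spec.map _ ≫ Spec.map _ ≫ _ = Spec.map _ ≫ Spec.map _ ≫ _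
    rw [← Spec.map_comp_assoc, ← Spec.map_comp_assoc, ← CommRingCat.ofHom_comp,
      ← CommRingCat.ofHom_comp, e.comm]
  let ψmap : e.ptK' ⟶ sqC.ptK := Over.homMk (Spec.map (CommRingCat.ofHom e.ψ)) hψw
  let φmap : e.ptA' ⟶ sqC.ptA := Over.homMk (Spec.map (CommRingCat.ofHom e.φ)) rfl
  have hlam1' : (yon S).map jK' ≫ lam = (yon S).map ψmap ≫ (yon S).map ρ ≫ a₂ ≫ h := hlam1
  have hlam2' : lam ≫ f = (yon S).map φmap ≫ (yon S).map βC' ≫ q := hlam2
  have hmρ : m ≫ ψmap ≫ ρ = ρ' := by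
    ext
    change 𝟙 _ ≫ Spec.map (CommRingCat.ofHom e.ψ) ≫ ρ₀ = Spec.map (CommRingCat.ofHom e.ψ) ≫ ρ₀
    rw [Category.id_comp]
  have hγφ : γ ≫ φmap ≫ βC' = β'' ≫ k := by
    ext
    exact hφι
  have hl₂a : (yon S).map jj' ≫ l₂ = (yon S).map ρ' ≫ a₂ ≫ h := by
    calc (yon S).map jj' ≫ l₂ = (yon S).map (jj' ≫ γ) ≫ lam := by
          rw [Functor.map_comp, Category.assoc]
      _ = (yon S).map (m ≫ jK') ≫ lam := by rw [hjγ]
      _ = (yon S).map m ≫ (yon S).map ψmap ≫ (yon S).map ρ ≫ a₂ ≫ h := by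
          rw [Functor.map_comp, Category.assoc, hlam1']
      _ = (yon S).map (m ≫ ψmap ≫ ρ) ≫ a₂ ≫ h := by
          simp only [Functor.map_comp, Category.assoc]
      _ = (yon S).map ρ' ≫ a₂ ≫ h := by rw [hmρ]
  have hl₂b : l₂ ≫ f = (yon S).map β'' ≫ a ≫ f := by
    calc l₂ ≫ f = (yon S).map γ ≫ lam ≫ f := Category.assoc _ _ _
      _ = (yon S).map γ ≫ (yon S).map φmap ≫ (yon S).map βC' ≫ q := by rw [hlam2']
      _ = (yon S).map (γ ≫ φmap ≫ βC') ≫ q := by
          simp only [Functor.map_comp, Category.assoc]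
      _ = (yon S).map (β'' ≫ k) ≫ q := by rw [hγφ]
      _ = (yon S).map β'' ≫ a ≫ f := by rw [Functor.map_comp, Category.assoc, comm2]
  have h12 : l₁ = l₂ :=
    (hv sqB ⟨(yon S).map ρ' ≫ a₂, by rw [Category.assoc]⟩).1 l₁ l₂ hl₁a hl₁b hl₂a hl₂b
  -- conclusion on points
  let c' : (Over.mk strB').left := closedPoint B'
  let c : e.ptA'.left := closedPoint e.A'
  refine ⟨Points.ofPt lam c, ?_, ?_⟩
  · have h1 : Points.ofPt l₁ c' = Points.ofPt a (βB (closedPoint B)) := by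
      change Points.ofPt ((yon S).map β'' ≫ a) c' = _
      rw [ofPt_comp_yon_map]
      congr 1
      change βB ((Spec.map (CommRingCat.ofHom β)) c') = _
      have h0 : Spec.map (CommRingCat.ofHom β) c' = closedPoint B := comap_closedPoint (S := B') β
      rw [h0]
    have h2 : Points.ofPt l₂ c' = Points.ofPt lam ((Spec.map (CommRingCat.ofHom ι')) c') := by
      change Points.ofPt ((yon S).map γ ≫ lam) c' = _
      rw [ofPt_comp_yon_map]
      rfl
    have hsp : (Spec.map (CommRingCat.ofHom ι')) c' ⤳ c := specializes_closedPoint (R := e.A') _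
    have h3 := hsp.map (Points.continuous_ofPt lam)
    rw [← h2, ← h12, h1] at h3
    exact h3.mem_closed hC hmem
  · rw [Points.map_ofPt, hlam2']
    rw [ofPt_comp_yon_map, ofPt_comp_yon_map]
    congr 1
    change βC (Spec.map (CommRingCat.ofHom e.φ) c) = _
    have h1 : Spec.map (CommRingCat.ofHom e.φ) c = closedPoint C₀ :=
      comap_closedPoint (S := e.A') e.φ
    rw [h1]

/-- **Specialization lemma for the refined criterion.** -/
theorem exists_mem_of_specializes_of_refined {U X Y : Sp S} (hU : IsAlgSpace U)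
    (hX : IsAlgSpace X) (f : X ⟶ Y) (h : U ⟶ X) (hh : IsQuasiCompactMor h)
    (hd : DenseRange (Points.map h))
    (hv : ∀ sq : ValSq f, (∃ t : (yon S).obj sq.ptK ⟶ U, t ≫ h = sq.top) →
      sq.HasUniq ∧ sq.HasLiftExt)
    {U₁ W₁ : Over S} [IsAffine U₁.left] (a : (yon S).obj U₁ ⟶ X) (hae : RepWith @Etale a)
    (q : (yon S).obj W₁ ⟶ Y) (k : U₁ ⟶ W₁) (comm : a ≫ f = (yon S).map k ≫ q)
    (C : Set (Points X)) (hC : IsClosed C) (u' : U₁.left) (hu' : Points.ofPt a u' ∈ C)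
    (w : W₁.left) (hw : k.left u' ⤳ w) :
    ∃ x ∈ C, Points.map f x = Points.ofPt q w := by
  obtain ⟨U₂, a₂, h₂, hU₂, comm1, hdense⟩ := exists_dense_chart_qc hU hX h hh hd U₁ a hae
  haveI := hU₂
  obtain ⟨u₂, hu₂⟩ := Groth.Agent.Helper19.DvrVC.exists_specializes_of_mem_closure_range h₂.left u'
    (by rw [hdense.closure_range]; trivial)
  obtain ⟨B, C₀, hle, βB, βC, hB1, hB2, hC3, hC4⟩ :=
    exists_composite_data h₂.left k.left u₂ u' w hu₂ hw
  have := exists_mem_of_composite f h hv a₂ a q h₂ k comm1 comm C hC B C₀ hle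
    (U₂.left.fromSpecResidueField u₂) βB βC hB2 hC3 (by rw [hB1]; exact hu')
  rwa [hC4] at this

end Groth.Agent.Helper19.RefVC
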