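import Groth.Agent.Lib.Helper19.RefVC.Alg
import Groth.Agent.Lib.Helper15.ValExist

/-!
# Scheme-level data for the refined valuative criterion: the composite valuation ring through two
successive specializations (helper19)
-/

set_option autoImplicit false
universe u
open CategoryTheory CategoryTheory.Limits AlgebraicGeometry IsLocalRing

namespace Groth.Agent.Helper19.RefVC
open Groth.Agent.Lib.Helper19.ValEx

/-- A valuation ring of `L` through a specialization of the image of an `L`-valued point. -/
theorem exists_valuationRing_of_specializes_point {W : Scheme.{u}} {L : Type u} [Field L]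
    (g : Spec (CommRingCat.of L) ⟶ W) {w : W} (h : g (closedPoint L) ⤳ w) :
    ∃ (A' : ValuationSubring L) (β : Spec (.of A') ⟶ W),
      β (closedPoint A') = w ∧ Spec.map (CommRingCat.ofHom (algebraMap A' L)) ≫ β = g := by
  obtain ⟨A', β, h1, h2⟩ :=
    Groth.Agent.Helper15.ValExist.exists_valuationRing_of_specializes_field h
      (Scheme.descResidueField (Scheme.stalkClosedPointTo g))
  refine ⟨A', β, h1, ?_⟩
  rw [h2]
  exact Scheme.descResidueField_stalkClosedPointTo_fromSpecResidueField L W g

/-- **Composite valuation ring through two specializations.** -/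
theorem exists_composite_data {U₂ U₁ W₁ : Scheme.{u}} (h₂ : U₂ ⟶ U₁) (k : U₁ ⟶ W₁) (u₂ : U₂)
    (u' : U₁) (w : W₁) (hu : h₂ u₂ ⤳ u') (hw : k u' ⤳ w) :
    ∃ (B C₀ : ValuationSubring (U₂.residueField u₂)) (hle : C₀ ≤ B)
      (βB : Spec (CommRingCat.of B) ⟶ U₁) (βC : Spec (CommRingCat.of C₀) ⟶ W₁),
      βB (closedPoint B) = u' ∧
      Spec.map (CommRingCat.ofHom B.subtype) ≫ βB = U₂.fromSpecResidueField u₂ ≫ h₂ ∧
      Spec.map (CommRingCat.ofHom (ValuationSubring.inclusion C₀ B hle)) ≫ βC = βB ≫ k ∧
      βC (closedPoint C₀) = w := by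
  -- the first valuation ring
  have hg1 : (U₂.fromSpecResidueField u₂ ≫ h₂) (closedPoint (U₂.residueField u₂)) ⤳ u' := by
    rw [Scheme.Hom.comp_apply, Scheme.fromSpecResidueField_apply]
    exact hu
  obtain ⟨B, βB, hB1, hB2⟩ := exists_valuationRing_of_specializes_point
    (L := U₂.residueField u₂) (U₂.fromSpecResidueField u₂ ≫ h₂) hg1
  -- the second valuation ring, in the residue field of the first
  let g₂ : Spec (CommRingCat.of (ResidueField B)) ⟶ W₁ :=
    Spec.map (CommRingCat.ofHom (residue B)) ≫ βB ≫ k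
  have hg2 : g₂ (closedPoint (ResidueField B)) ⤳ w := by
    have h1 : (Spec.map (CommRingCat.ofHom (residue B))) (closedPoint (ResidueField B)) =
        closedPoint B := IsLocalRing.comap_closedPoint (residue B)
    change k (βB ((Spec.map (CommRingCat.ofHom (residue B))) (closedPoint (ResidueField B)))) ⤳ w
    rw [h1, hB1]
    exact hw
  obtain ⟨V, βV, hV1, hV2⟩ := exists_valuationRing_of_specializes_point g₂ hg2
  let t : B →+* ResidueField B := residue B
  have ht : ∀ y : B, ¬ IsUnit y → t y = 0 := by
    intro y hy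
    exact (residue_eq_zero_iff y).mpr ((mem_maximalIdeal y).mpr hy)
  -- affine neighbourhood of `w`
  obtain ⟨D, jW, hjW, hsW⟩ := exists_affine_nbhd W₁ w
  haveI := hjW
  obtain ⟨dV, hdV⟩ := exists_factor_of_isLocalRing βV jW (by rw [hV1]; exact hsW)
  have hBk : (βB ≫ k) (closedPoint B) ∈ Set.range jW := by
    rw [Scheme.Hom.comp_apply, hB1]
    exact hw.mem_open jW.isOpenEmbedding.isOpen_range hsW
  obtain ⟨dB, hdB⟩ := exists_factor_of_isLocalRing (βB ≫ k) jW hBk
  have hcompat : dB ≫ CommRingCat.ofHom t = dV ≫ CommRingCat.ofHom V.subtype := by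
    have e : Spec.map (dB ≫ CommRingCat.ofHom t) ≫ jW =
        Spec.map (dV ≫ CommRingCat.ofHom V.subtype) ≫ jW := by
      rw [Spec.map_comp, Spec.map_comp, Category.assoc, Category.assoc, ← hdB, ← hdV]
      exact hV2.symm
    exact Spec.map_injective ((cancel_mono jW).mp e)
  have hcompat' : ∀ a : D, t (dB.hom a) = ((dV.hom a : V) : ResidueField B) := fun a =>
    congrArg (fun φ => φ.hom a) hcompat
  have hdC : ∀ a : D, (B.subtype.comp dB.hom) a ∈ (compVal B t ht V).toSubring := by
    intro a
    refine (mem_compVal B t ht V).mpr ⟨dB.hom a, ?_, rfl⟩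
    rw [hcompat']
    exact (dV.hom a).2
  let dC : D ⟶ CommRingCat.of (compVal B t ht V) :=
    CommRingCat.ofHom (RingHom.codRestrict (B.subtype.comp dB.hom) (compVal B t ht V).toSubring hdC)
  have hle : compVal B t ht V ≤ B := compVal_le' B t ht V
  have hdCι : dC ≫ CommRingCat.ofHom (ValuationSubring.inclusion _ B hle) = dB := by
    ext a; rfl
  have hdCt : dC ≫ CommRingCat.ofHom (toV B t ht V) = dV := by
    ext a
    change t (inclB B t ht V (dC.hom a)) = _
    rw [← hcompat']
    rfl
  refine ⟨B, compVal B t ht V, hle, βB, Spec.map dC ≫ jW, hB1, hB2, ?_, ?_⟩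
  · have e : Spec.map (dC ≫ CommRingCat.ofHom (ValuationSubring.inclusion _ B hle)) = Spec.map dB :=
      congrArg Spec.map hdCι
    exact (Category.assoc _ _ _).symm.trans
      ((congrArg (· ≫ jW) ((Spec.map_comp _ _).symm.trans e)).trans hdB.symm)
  · haveI := isLocalHom_toV B t ht V
    have h1 : (Spec.map (CommRingCat.ofHom (toV B t ht V))) (closedPoint V) =
        closedPoint (compVal B t ht V) := IsLocalRing.comap_closedPoint (toV B t ht V)
    have e : Spec.map (dC ≫ CommRingCat.ofHom (toV B t ht V)) = Spec.map dV :=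
      congrArg Spec.map hdCt
    have e2 : Spec.map (CommRingCat.ofHom (toV B t ht V)) ≫ Spec.map dC ≫ jW = βV :=
      (Category.assoc _ _ _).symm.trans
        ((congrArg (· ≫ jW) ((Spec.map_comp _ _).symm.trans e)).trans hdV.symm)
    have e3 : (Spec.map dC ≫ jW) (closedPoint (compVal B t ht V)) =
        (Spec.map dC ≫ jW) ((Spec.map (CommRingCat.ofHom (toV B t ht V))) (closedPoint V)) :=
      congrArg (fun z => (Spec.map dC ≫ jW) z) h1.symm
    refine e3.trans ?_
    change (Spec.map (CommRingCat.ofHom (toV B t ht V)) ≫ Spec.map dC ≫ jW) (closedPoint V) = w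
    rw [e2, hV1]

end Groth.Agent.Helper19.RefVC
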