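import Groth.Agent.Lib.Helper19.RefVC.Core
import Groth.Agent.Lib.Helper19.DvrVC.UC
import Groth.Agent.Lib.Helper19.UCSp.Main
import Groth.Agent.Lib.Helper16.Sch.AffDict
import Groth.Agent.Lib.Helper15.AlgSpProper
import Groth.Agent.Lib.Helper15.AlgSpLocP3

/-!
# Refined valuative criterion through a dense source: universal closedness and separatedness
(helper19)
-/

set_option autoImplicit false
universe u
open CategoryTheory CategoryTheory.Limits AlgebraicGeometry MorphismProperty TopologicalSpace
open AlgSp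

namespace Groth.Agent.Helper19.RefVC
open Groth.Agent.Helper15 Groth.Agent.Helper16.AS Groth.Agent.Helper19.ValCopy
  Groth.Agent.Helper19.DvrVC
variable {S : Scheme.{u}}

/-- The refined valuative hypothesis: squares whose top arrow factors through `U` have at most one
lift, and a lift after a dominating extension. -/
def RefinedVal {U X Y : Sp S} (f : X ⟶ Y) (h : U ⟶ X) : Prop :=
  ∀ sq : ValSq f, (∃ t : (yon S).obj sq.ptK ⟶ U, t ≫ h = sq.top) → sq.HasUniq ∧ sq.HasLiftExt

/-- Under the refined valuative hypothesis a quasi-compact morphism is closed. -/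
theorem isClosedMor_of_refined {U X Y : Sp S} (hU : IsAlgSpace U) (hX : IsAlgSpace X)
    (hY : IsAlgSpace Y) (f : X ⟶ Y) (h : U ⟶ X) (hf : IsQuasiCompactMor f)
    (hh : IsQuasiCompactMor h) (hd : DenseRange (Points.map h)) (hv : RefinedVal f h) :
    IsClosedMor f := by
  obtain ⟨W, q, hqe, hqs⟩ := hY.atlas
  have hquot : Topology.IsQuotientMap (Points.ofPt q) :=
    (isOpenMap_ofPt_of_etale q hqe).isQuotientMap (Points.continuous_ofPt q)
      (surjective_ofPt q hqs)
  intro C hC
  rw [← hquot.isClosed_preimage]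
  apply isClosed_of_openCover W.left.affineCover
  intro i
  let Wi : Over S := Over.mk (W.left.affineCover.f i ≫ W.hom)
  let ιi : Wi ⟶ W := Over.homMk (W.left.affineCover.f i) rfl
  haveI hWi : IsAffine Wi.left := by
    change IsAffine (W.left.affineCover.X i); infer_instance
  let qi : (yon S).obj Wi ⟶ Y := (yon S).map ιi ≫ q
  have hqie : RepWith @Etale qi := by
    refine (RepWith @Etale).comp_mem _ _ ((repWith_yon_map_iff _ ιi).2 ?_) hqe
    change Etale (W.left.affineCover.f i)
    infer_instance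
  have pb : IsPullback (pullback.fst f qi) (pullback.snd f qi) f qi := IsPullback.of_hasPullback _ _
  have hP : IsAlgSpace (pullback f qi) :=
    isAlgSpace_of_isPullback hY.diag hX (IsAlgSpace.yon_obj Wi) pb
  have hPq : IsQuasiCompactSp (pullback f qi) :=
    hf (IsAlgSpace.yon_obj Wi) ((isQuasiCompactSp_yon_iff Wi).2 inferInstance) qi _ _ pb
  obtain ⟨U₁, p, hU₁, hpe, hps⟩ := exists_affine_chart_of_isQuasiCompactSp hPq
  haveI := hU₁
  obtain ⟨k, hk⟩ := (yon S).map_surjective (p ≫ pullback.snd f qi)
  let a : (yon S).obj U₁ ⟶ X := p ≫ pullback.fst f qi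
  have hae : RepWith @Etale a :=
    (RepWith @Etale).comp_mem _ _ hpe ((RepWith @Etale).of_isPullback pb.flip hqie)
  have comm : a ≫ f = (yon S).map k ≫ qi := by
    rw [hk, Category.assoc, Category.assoc, pb.w]
  have key : Points.ofPt qi ⁻¹' (Points.map f '' C) = k.left '' (Points.ofPt a ⁻¹' C) := by
    ext w
    constructor
    · rintro ⟨x, hx, hxw⟩
      rw [Points.ofPt_eq_map_ofScheme qi w] at hxw
      obtain ⟨p', hp1, hp2⟩ := exists_point_of_isPullback pb x _ hxw
      obtain ⟨u, rfl⟩ := surjective_ofPt p hps p'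
      rw [Points.map_ofPt] at hp1 hp2
      rw [← hk, Groth.Agent.Helper15.ofPt_yon_map] at hp2
      refine ⟨u, ?_, (Points.schemeEquiv Wi).injective hp2⟩
      change Points.ofPt a u ∈ C
      rw [hp1]; exact hx
    · rintro ⟨u, hu, rfl⟩
      refine ⟨Points.ofPt a u, hu, ?_⟩
      rw [Points.map_ofPt, comm, ofPt_comp_yon_map]
  have e : (W.left.affineCover.f i) ⁻¹' (Points.ofPt q ⁻¹' (Points.map f '' C)) =
      Points.ofPt qi ⁻¹' (Points.map f '' C) := by
    ext w
    simp only [Set.mem_preimage]
    rw [ofPt_comp_yon_map]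
    rfl
  rw [e, key]
  apply isClosed_image_of_stableUnderSpecialization_of_isAffine
  · exact hC.preimage (Points.continuous_ofPt a)
  · rintro w' w hsp ⟨u', hu', rfl⟩
    obtain ⟨x, hxC, hx⟩ := exists_mem_of_specializes_of_refined hU hX f h hh hd hv a hae qi k comm
      C hC u' hu' w hsp
    rw [← key]
    exact ⟨x, hxC, hx⟩

/-- The refined valuative hypothesis is stable under base change. -/
theorem refinedVal_of_isPullback {U X Y Z X' : Sp S} {f : X ⟶ Y} {g : Z ⟶ Y} {fst : X' ⟶ X}
    {f' : X' ⟶ Z} (pb : IsPullback fst f' f g) (h : U ⟶ X) (hv : RefinedVal f h) :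
    RefinedVal f' (pullback.snd h fst) := by
  rintro sq ⟨t, ht⟩
  have htop : (t ≫ pullback.fst h fst) ≫ h = (valSqPush sq fst g pb.w).top := by
    change _ = sq.top ≫ fst
    rw [Category.assoc, pullback.condition, ← Category.assoc, ht]
  obtain ⟨hu, e, l, hl1, hl2⟩ := hv (valSqPush sq fst g pb.w) ⟨t ≫ pullback.fst h fst, htop⟩
  constructor
  · intro l l' h1 h2 h1' h2'
    have p1 : (yon S).map sq.j ≫ l ≫ fst = sq.top ≫ fst := by rw [← Category.assoc, h1]
    have p2 : (l ≫ fst) ≫ f = sq.bot ≫ g := by rw [Category.assoc, pb.w, ← Category.assoc, h2]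
    have p3 : (yon S).map sq.j ≫ l' ≫ fst = sq.top ≫ fst := by rw [← Category.assoc, h1']
    have p4 : (l' ≫ fst) ≫ f = sq.bot ≫ g := by rw [Category.assoc, pb.w, ← Category.assoc, h2']
    apply pb.hom_ext
    · exact hu (l ≫ fst) (l' ≫ fst) p1 p2 p3 p4
    · rw [h2, h2']
  · have hl2' : l ≫ f = ((yon S).map (Over.homMk (Spec.map (CommRingCat.ofHom e.φ)) rfl :
        e.ptA' ⟶ sq.ptA) ≫ sq.bot) ≫ g := by
      rw [Category.assoc]; exact hl2
    refine ⟨domExtOfPush e, pb.lift l _ hl2', ?_, pb.lift_snd _ _ _⟩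
    apply pb.hom_ext
    · rw [Category.assoc, pb.lift_fst, Category.assoc]
      exact hl1
    · rw [Category.assoc, pb.lift_snd, Category.assoc, sq.comm, ← Category.assoc,
        ← Category.assoc, ← Functor.map_comp, ← Functor.map_comp]
      congr 2
      ext
      change Spec.map _ ≫ Spec.map _ = Spec.map _ ≫ Spec.map _
      rw [← Spec.map_comp, ← Spec.map_comp, ← CommRingCat.ofHom_comp, ← CommRingCat.ofHom_comp]
      exact congrArg (fun t => Spec.map (CommRingCat.ofHom t)) e.comm

/-- **Refined valuative criterion, universal closedness.** -/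
theorem isUnivClosedMor_of_refined {U X Y : Sp S} (hU : IsAlgSpace U) (hX : IsAlgSpace X)
    (hY : IsAlgSpace Y) (f : X ⟶ Y) (h : U ⟶ X) (hf : IsQuasiCompactMor f)
    (hh : IsQuasiCompactMor h) (hd : DenseRange (Points.map h)) (hv : RefinedVal f h) :
    IsUnivClosedMor f := by
  obtain ⟨V, p, hpe, hps⟩ := hY.atlas
  refine Groth.Agent.Helper19.UCSp.isUnivClosedMor_of_piA hX hY hf p hpe hps (fun n => ?_)
  obtain ⟨g, hg⟩ : ∃ g, g = (yon S).map (Groth.Agent.Helper19.UCSp.piA n V) ≫ p := ⟨_, rfl⟩
  rw [← hg]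
  have pb : IsPullback (pullback.fst f g) (pullback.snd f g) f g := IsPullback.of_hasPullback _ _
  have hT := IsAlgSpace.yon_obj (S := S)
    (Over.mk ((𝔸(ULift.{u} (Fin n); V.left) ↘ V.left) ≫ V.hom))
  have hX' : IsAlgSpace (pullback f g) := isAlgSpace_of_isPullback hY.diag hX hT pb
  have pbU : IsPullback (pullback.fst h (pullback.fst f g)) (pullback.snd h (pullback.fst f g)) h
      (pullback.fst f g) := IsPullback.of_hasPullback _ _
  have hU' : IsAlgSpace (pullback h (pullback.fst f g)) :=
    isAlgSpace_of_isPullback hX.diag hU hX' pbU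
  have hf' : IsQuasiCompactMor (pullback.snd f g) :=
    Groth.Agent.Helper19.ValCopy.isQuasiCompactMor_of_isPullback pb hf
  have hh' : IsQuasiCompactMor (pullback.snd h (pullback.fst f g)) :=
    Groth.Agent.Helper19.ValCopy.isQuasiCompactMor_of_isPullback pbU hh
  have hopen : IsOpenMap (Points.map (pullback.fst f g)) := by
    haveI : Smooth (𝔸(ULift.{u} (Fin n); V.left) ↘ V.left) :=
      Groth.Agent.Helper16.AffDict.smooth_over
    have h1 : RepWith @UniversallyOpen ((yon S).map (Groth.Agent.Helper19.UCSp.piA n V)) :=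
      (repWith_yon_map_iff _ _).2
        (inferInstanceAs (UniversallyOpen (𝔸(ULift.{u} (Fin n); V.left) ↘ V.left)))
    have hg1 : RepWith @UniversallyOpen g := by
      rw [hg]
      exact (RepWith @UniversallyOpen).comp_mem _ _ h1 (repWith_mono etale_le_universallyOpen hpe)
    exact isUnivOpenMor_of_repWith g hg1 hX f _ _ pb.flip
  have hd' : DenseRange (Points.map (pullback.snd h (pullback.fst f g))) := by
    change Dense (Set.range _)
    rw [range_map_of_isPullback pbU]
    exact Dense.preimage hd hopen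
  exact isClosedMor_of_refined hU' hX' hT _ _ hf' hh' hd' (refinedVal_of_isPullback pb h hv)

/-- **Refined valuative criterion, separatedness.** -/
theorem isSeparatedMor_of_refined {U X Y : Sp S} (hU : IsAlgSpace U) (hX : IsAlgSpace X)
    (hY : IsAlgSpace Y) (f : X ⟶ Y) (h : U ⟶ X) (hqs : IsQuasiSeparatedMor f)
    (hh : IsQuasiCompactMor h) (hd : DenseRange (Points.map h)) (hv : RefinedVal f h) :
    IsSeparatedMor f := by
  rw [(isSeparatedMor_iff_diagonal hX f).1]
  have pbP : IsPullback (pullback.fst f f) (pullback.snd f f) f f := IsPullback.of_hasPullback _ _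
  have hP : IsAlgSpace (pullback f f) := isAlgSpace_of_isPullback hY.diag hX hX pbP
  have hΔqc : IsQuasiCompactMor (pullback.diagonal f) := isQuasiCompactMor_of_repWith _ hqs
  refine isUnivClosedMor_of_refined hU hX hP (pullback.diagonal f) h hΔqc hh hd ?_
  rintro sq ⟨t, ht⟩
  let a1 : (yon S).obj sq.ptA ⟶ X := sq.bot ≫ pullback.fst f f
  let a2 : (yon S).obj sq.ptA ⟶ X := sq.bot ≫ pullback.snd f f
  have hk1 : (yon S).map sq.j ≫ a1 = sq.top := by
    change (yon S).map sq.j ≫ sq.bot ≫ pullback.fst f f = sq.top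
    rw [← Category.assoc, ← sq.comm, Category.assoc, pullback.diagonal_fst, Category.comp_id]
  have hk2 : (yon S).map sq.j ≫ a2 = sq.top := by
    change (yon S).map sq.j ≫ sq.bot ≫ pullback.snd f f = sq.top
    rw [← Category.assoc, ← sq.comm, Category.assoc, pullback.diagonal_snd, Category.comp_id]
  let sqv : ValSq f :=
    { A := sq.A, K := sq.K, str := sq.str, top := sq.top, bot := a1 ≫ f
      comm := by rw [← hk1, Category.assoc] }
  have h12 : a1 = a2 := (hv sqv ⟨t, ht⟩).1 a1 a2 hk1 rfl hk2 (by
    change a2 ≫ f = a1 ≫ f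
    simp only [a1, a2, Category.assoc, pullback.condition])
  constructor
  · intro l l' h1 h2 h1' h2'
    calc l = (l ≫ pullback.diagonal f) ≫ pullback.fst f f := by
          rw [Category.assoc, pullback.diagonal_fst, Category.comp_id]
      _ = (l' ≫ pullback.diagonal f) ≫ pullback.fst f f := by rw [h2, h2']
      _ = l' := by rw [Category.assoc, pullback.diagonal_fst, Category.comp_id]
  · apply hasLiftExt_of_hasLift
    refine ⟨a1, hk1, ?_⟩
    apply pullback.hom_ext
    · rw [Category.assoc, pullback.diagonal_fst, Category.comp_id]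
    · rw [Category.assoc, pullback.diagonal_snd, Category.comp_id, h12]

end Groth.Agent.Helper19.RefVC
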